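import Mathlib

/-!
Algebra for triviality of locally free modules over a discrete valuation ring: torsion bounds.
-/

universe u v

namespace Groth.Agent.DVRTriv4

variable {R : Type u} [CommRing R] [IsDomain R] [IsPrincipalIdealRing R]

theorem exists_torsion_bound (ϖ : R) (M : Type v) [AddCommGroup M] [Module R M] [Module.Finite R M] :
    ∃ c : ℕ, ∀ (x : M) (k : ℕ), ϖ ^ k • x = 0 → ϖ ^ c • x = 0 := by
  let K : ℕ →o Submodule R M :=
    ⟨fun k => LinearMap.ker (DistribSMul.toLinearMap R M (ϖ ^ k)), fun a b hab x hx => by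
      obtain ⟨d, rfl⟩ := Nat.exists_eq_add_of_le hab
      simp only [LinearMap.mem_ker, DistribSMul.toLinearMap_apply] at hx ⊢
      rw [pow_add, mul_comm, mul_smul, hx, smul_zero]⟩
  obtain ⟨c, hc⟩ := monotone_stabilizes_iff_noetherian.2 inferInstance K
  refine ⟨c, fun x k hx => ?_⟩
  have h1 : x ∈ K (max c k) := K.monotone (le_max_right c k) (show ϖ ^ k • x = 0 from hx)
  rw [← hc _ (le_max_left c k)] at h1
  exact h1

/-- A quotient of a free module of rank `β` containing a free submodule of rank `β` is free. -/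
theorem injective_of_surjective_of_injective {β : ℕ} {L : Type v} [AddCommGroup L] [Module R L]
    (q : (Fin β → R) →ₗ[R] L) (hq : Function.Surjective q) (ι : (Fin β → R) →ₗ[R] L)
    (hι : Function.Injective ι) : Function.Injective q := by
  obtain ⟨j, hj⟩ := Module.projective_lifting_property q ι hq
  have hji : Function.Injective j := Function.Injective.of_comp (f := q) (by
    rw [← LinearMap.coe_comp, hj]; exact hι)
  have hinf : (LinearMap.ker q ⊓ LinearMap.range j : Submodule R (Fin β → R)) = ⊥ := by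
    refine (Submodule.eq_bot_iff _).2 ?_
    rintro _ ⟨hy, x, rfl⟩
    have h0 : ι x = 0 := by rw [← hj]; exact hy
    rw [show x = 0 from hι (h0.trans (map_zero ι).symm), map_zero]
  let K : Submodule R (Fin β → R) := LinearMap.ker q
  let J : Submodule R (Fin β → R) := LinearMap.range j
  have hinj : Function.Injective (K.subtype.coprod J.subtype) := by
    refine (injective_iff_map_eq_zero _).2 fun z hz => ?_
    rw [LinearMap.coprod_apply] at hz
    have hz1 : (z.1 : Fin β → R) ∈ K ⊓ J := ⟨z.1.2, by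
      rw [show (z.1 : Fin β → R) = -(z.2 : Fin β → R) from eq_neg_of_add_eq_zero_left hz]
      exact neg_mem z.2.2⟩
    rw [show K ⊓ J = ⊥ from hinf, Submodule.mem_bot] at hz1
    have hz2 : (z.2 : Fin β → R) = 0 := by simpa [hz1] using hz
    exact Prod.ext (Subtype.ext hz1) (Subtype.ext hz2)
  have h1 := LinearMap.finrank_le_finrank_of_injective hinj
  have h2 : Module.finrank R J = β := by
    rw [LinearMap.finrank_range_of_inj hji, Module.finrank_fin_fun]
  rw [Module.finrank_prod, h2, Module.finrank_fin_fun] at h1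
  have h4 : Module.finrank R K = 0 := by omega
  rw [← LinearMap.ker_eq_bot]
  exact Submodule.finrank_eq_zero.1 h4

variable [IsLocalRing R]

/-- The torsion of `H` is bounded by `c`, when `H` maps modulo `ϖ ^ (c + 1)` into the image of a module `G` of the
same rank whose torsion is bounded by `c`. -/
theorem torsion_bound (ϖ : R) (hϖ : ϖ ∈ IsLocalRing.maximalIdeal R) (hϖ0 : ϖ ≠ 0) {G H W : Type v}
    [AddCommGroup G] [Module R G] [Module.Finite R G] [AddCommGroup H] [Module R H] [Module.Finite R H]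
    [AddCommGroup W] [Module R W] (c : ℕ)
    (hG : ∀ (x : G) (k : ℕ), ϖ ^ k • x = 0 → ϖ ^ c • x = 0)
    (hG' : ∀ (x : G) (a : R), a ≠ 0 → a • x = 0 → ∃ k, ϖ ^ k • x = 0)
    (f : G →ₗ[R] H) (hf : ∀ x, f x = 0 → ∃ k, ϖ ^ k • x = 0)
    (a : H →ₗ[R] W) (b : G →ₗ[R] W) (hker : ∀ h, a h = 0 ↔ ∃ y, ϖ ^ (c + 1) • y = h)
    (hab : ∀ h, ∃ g, a h = b g) :
    ∀ (x : H) (k : ℕ), ϖ ^ k • x = 0 → ϖ ^ c • x = 0 := by
  let m : G →ₗ[R] G := DistribSMul.toLinearMap R G (ϖ ^ c)
  let mH : H →ₗ[R] H := DistribSMul.toLinearMap R H (ϖ ^ c)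
  let LG := LinearMap.range m
  haveI : Module.IsTorsionFree R LG := by
    refine Module.IsTorsionFree.of_smul_eq_zero fun r y hy => ?_
    by_cases hr : r = 0
    · exact Or.inl hr
    refine Or.inr (Subtype.ext ?_)
    obtain ⟨x, hx⟩ := y.2
    obtain ⟨k, hk⟩ := hG' y.1 r hr (congrArg Subtype.val hy)
    have h0 : ϖ ^ (k + c) • x = 0 := by
      rw [pow_add, mul_smul]
      exact (congrArg (ϖ ^ k • ·) hx).trans hk
    exact hx.symm.trans (hG x _ h0)
  haveI : Module.Free R LG := Module.free_of_finite_type_torsion_free'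
  let β := Module.finrank R LG
  let B := Module.finBasis R LG
  let eG : (Fin β → R) ≃ₗ[R] LG := B.equivFun.symm
  -- the image of the multiples in the target is generated by β elements
  let P : (Fin β → R) →ₗ[R] W := b.comp (LG.subtype.comp eG.toLinearMap)
  have hP : ∀ y ∈ LinearMap.range mH, a y ∈ LinearMap.range P := by
    rintro _ ⟨h, rfl⟩
    obtain ⟨g, hg⟩ := hab h
    refine ⟨eG.symm ⟨m g, g, rfl⟩, ?_⟩
    show b (eG (eG.symm ⟨m g, g, rfl⟩)).1 = a (ϖ ^ c • h)
    rw [LinearEquiv.apply_symm_apply, map_smul, hg, ← map_smul]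
    rfl
  let LH := LinearMap.range mH
  let S : Submodule R (Fin β → R) := (Submodule.map a LH).comap P
  obtain ⟨nS, bS⟩ := Submodule.basisOfPid (Pi.basisFun R (Fin β)) S
  have hnS : nS ≤ β := by
    have h := Submodule.finrank_le S
    rwa [Module.finrank_eq_card_basis bS, Fintype.card_fin, Module.finrank_fin_fun] at h
  choose y hy hay using fun i : Fin nS => Submodule.mem_map.1 (show P (bS i).1 ∈ Submodule.map a LH from (bS i).2)
  let y' : Fin β → LH := fun i => if h : i.1 < nS then ⟨y ⟨i, h⟩, hy ⟨i, h⟩⟩ else 0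
  let q : (Fin β → R) →ₗ[R] LH := Fintype.linearCombination R y'
  have hq : Function.Surjective q := by
    rw [← LinearMap.range_eq_top]
    refine top_unique (Submodule.le_of_le_smul_of_le_jacobson_bot (I := Ideal.span {ϖ}) Module.Finite.fg_top
      (by rw [IsLocalRing.jacobson_eq_maximalIdeal ⊥ bot_ne_top, Ideal.span_singleton_le_iff_mem]; exact hϖ) ?_)
    intro z _
    obtain ⟨t, ht⟩ := hP z.1 z.2
    have htS : t ∈ S := by show P t ∈ Submodule.map a LH; rw [ht]; exact ⟨z.1, z.2, rfl⟩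
    let co := bS.repr ⟨t, htS⟩
    let z' : LH := ∑ i : Fin nS, co i • (⟨y i, hy i⟩ : LH)
    have hz' : a z'.1 = a z.1 := by
      have h2 := congrArg (fun s : S => P s.1) (bS.sum_repr ⟨t, htS⟩)
      simp only [Submodule.coe_sum, Submodule.coe_smul, map_sum, map_smul, ← hay] at h2
      rw [← ht, ← h2]
      simp [z', co, map_sum]
    have hz'r : z' ∈ LinearMap.range q := by
      refine Submodule.sum_mem _ fun i _ => Submodule.smul_mem _ _ ⟨Pi.single ⟨i.1, i.2.trans_le hnS⟩ 1, ?_⟩
      simp [q, Fintype.linearCombination_apply_single, y', i.2]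
    obtain ⟨w, hw⟩ := (hker (z.1 - z'.1)).1 (by rw [map_sub, hz', sub_self])
    have hd : z - z' = ϖ • (⟨mH w, w, rfl⟩ : LH) := by
      refine Subtype.ext ?_
      show z.1 - z'.1 = ϖ • ϖ ^ c • w
      rw [← mul_smul, ← pow_succ', hw]
    rw [show z = z' + (z - z') by abel, hd]
    exact Submodule.add_mem_sup hz'r (Submodule.smul_mem_smul (Ideal.mem_span_singleton_self ϖ) trivial)
  let ι : (Fin β → R) →ₗ[R] LH := ((f.comp LG.subtype).codRestrict LH fun g => by
    obtain ⟨x, hx⟩ := g.2
    exact ⟨f x, (map_smul f (ϖ ^ c) x).symm.trans (congrArg f hx)⟩).comp eG.toLinearMap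
  have hι : Function.Injective ι := by
    refine (injective_iff_map_eq_zero _).2 fun v hv => eG.injective (Eq.trans ?_ (map_zero eG).symm)
    obtain ⟨k, hk⟩ := hf (eG v).1 (congrArg Subtype.val hv)
    exact (smul_eq_zero.1 (show ϖ ^ k • eG v = 0 from Subtype.ext hk)).resolve_left (pow_ne_zero _ hϖ0)
  have hqinj := injective_of_surjective_of_injective q hq ι hι
  intro x k hx
  have h1 : ϖ ^ k • (⟨mH x, x, rfl⟩ : LH) = 0 := Subtype.ext (by
    show ϖ ^ k • ϖ ^ c • x = 0
    rw [smul_comm, hx, smul_zero])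
  obtain ⟨v, hv⟩ := hq ⟨mH x, x, rfl⟩
  have h2 : ϖ ^ k • v = 0 := hqinj (by rw [map_smul, hv, h1, map_zero])
  rw [(smul_eq_zero.1 h2).resolve_left (pow_ne_zero _ hϖ0), map_zero] at hv
  exact (congrArg Subtype.val hv).symm

end Groth.Agent.DVRTriv4
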