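import Groth.Agent.Lib.FormalH7.ModLim
import Groth.Agent.Lib.FormalH7.ModShort
import Groth.Agent.Lib.PicH1_21.Rep
import Groth.Prelude.Def_Formal2
import Groth.Agent.Lib.DVRTriv4.Alg
import Groth.Agent.Lib.CurveCoh17.LES
import Groth.Agent.Lib.ModM1.Exact

/-!
The torsion-free part `ϖ^c₀ M` of a module over a base with a uniformizer and its quotients by powers.
-/

set_option autoImplicit false
set_option backward.isDefEq.respectTransparency false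
set_option backward.isDefEq.respectTransparency.types false

universe u

open CategoryTheory CategoryTheory.Limits AlgebraicGeometry Opposite

noncomputable section

namespace Groth.Agent.DVRTriv4

open Groth.Agent Groth.Agent.FormalH7

variable {R : Type u} [CommRing R] {X : Scheme.{u}} [X.Over (Spec (CommRingCat.of R))] (ϖ : R)

/-- the value of the uniformizer in a local ring -/
def tt (x : X) : X.presheaf.stalk x := (X.presheaf.germ ⊤ x trivial).hom.comp (multHom X ⊤) ϖ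

/-- multiplication by a power of the uniformizer -/
abbrev μ (k : ℕ) (M : X.Modules) : M ⟶ M := Formal.smulMod R M (ϖ ^ k)

/-- the quotient by a power of the uniformizer -/
abbrev P (k : ℕ) (M : X.Modules) : X.Modules := Formal.modPow (Ideal.span ({ϖ} : Set R)) k M

/-- the projection -/
abbrev pr (k : ℕ) (M : X.Modules) : M ⟶ P ϖ k M := Formal.modPowπ _ k M

variable {ϖ} {M N L : X.Modules}

/-- stalk map -/
abbrev sm (φ : M ⟶ N) (x : X) : (M.presheaf.stalk x : Type u) →ₗ[X.presheaf.stalk x] (N.presheaf.stalk x : Type u) :=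
  PicH1_21.stMapL φ x

theorem sm_comp (φ : M ⟶ N) (ψ : N ⟶ L) (x : X) (b) : sm (φ ≫ ψ) x b = sm ψ x (sm φ x b) := by
  show (M1.stalkAb x).map (φ ≫ ψ) b = (M1.stalkAb x).map ψ ((M1.stalkAb x).map φ b)
  rw [Functor.map_comp]
  rfl

theorem sm_id (M : X.Modules) (x : X) (b) : sm (𝟙 M) x b = b := by
  show (M1.stalkAb x).map (𝟙 M) b = b
  rw [CategoryTheory.Functor.map_id]
  rfl

theorem sm_zero (x : X) (b) : sm (0 : M ⟶ N) x b = 0 := by
  show (M1.stalkAb x).map (0 : M ⟶ N) b = 0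
  rw [Functor.map_zero]
  rfl

theorem sm_injective (φ : M ⟶ N) [Mono φ] (x : X) : Function.Injective (sm φ x) :=
  (M1.mono_iff_stalk φ).1 inferInstance x

theorem sm_surjective (φ : M ⟶ N) [Epi φ] (x : X) : Function.Surjective (sm φ x) :=
  (M1.epi_iff_stalk φ).1 inferInstance x

theorem sm_μ (k : ℕ) (M : X.Modules) (x : X) (b) : sm (μ ϖ k M) x b = tt ϖ x ^ k • b := by
  refine (stalk_smulMod M (ϖ ^ k) x b).trans ?_
  rw [tt, ← map_pow]

theorem μ_natural (φ : M ⟶ N) (k : ℕ) : μ ϖ k M ≫ φ = φ ≫ μ ϖ k N := smulMod_naturality φ _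

theorem μ_add (a b : ℕ) (M : X.Modules) : μ ϖ (a + b) M = μ ϖ b M ≫ μ ϖ a M :=
  (congrArg (Formal.smulMod R M) (pow_add ϖ a b)).trans (smulMod_mul M _ _)

theorem μ_zero (M : X.Modules) : μ ϖ 0 M = 𝟙 M :=
  (congrArg (Formal.smulMod R M) (pow_zero ϖ)).trans (smulMod_one M)

theorem μ_pr (k : ℕ) (M : X.Modules) : μ ϖ k M ≫ pr ϖ k M = 0 :=
  (smulFamily_comp_eq_zero_iff _).1 (cokernel.condition _) _
    (Ideal.pow_mem_pow (Ideal.mem_span_singleton_self ϖ) k)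

/-- descending a map along the projection -/
theorem exists_desc {k : ℕ} (φ : M ⟶ N) (h : μ ϖ k M ≫ φ = 0) : ∃ ψ, pr ϖ k M ≫ ψ = φ := by
  refine ⟨cokernel.desc _ φ ((smulFamily_comp_eq_zero_iff _).2 fun a ha => ?_), cokernel.π_desc _ _ _⟩
  rw [Ideal.span_singleton_pow, Ideal.mem_span_singleton'] at ha
  obtain ⟨c, rfl⟩ := ha
  rw [mul_comm, smulMod_mul, Category.assoc, h, comp_zero]

theorem μ_P {a k : ℕ} (h : a ≤ k) (M : X.Modules) : μ ϖ k (P ϖ a M) = 0 := by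
  refine (cancel_epi (pr ϖ a M)).1 ?_
  obtain ⟨d, rfl⟩ := Nat.exists_eq_add_of_le h
  rw [← μ_natural, μ_add, Category.assoc, μ_pr, comp_zero, comp_zero]

instance epi_pr (k : ℕ) (M : X.Modules) : Epi (pr ϖ k M) := inferInstanceAs (Epi (cokernel.π _))

theorem pr_eq_zero_iff (k : ℕ) (M : X.Modules) (x : X) (b) :
    sm (pr ϖ k M) x b = 0 ↔ ∃ c, tt ϖ x ^ k • c = b := by
  constructor
  · intro hb
    obtain ⟨c, hc⟩ := exists_of_stalk_modPowπ_eq_zero ϖ M k x b hb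
    exact ⟨c, (sm_μ k M x c).symm.trans hc⟩
  · rintro ⟨c, rfl⟩
    rw [← sm_μ, ← sm_comp, μ_pr, sm_zero]

/-- transition between the quotients -/
abbrev T {a b : ℕ} (h : b ≤ a) (M : X.Modules) : P ϖ a M ⟶ P ϖ b M := Formal2.modPowLE _ h M

theorem pr_T {a b : ℕ} (h : b ≤ a) (M : X.Modules) : pr ϖ a M ≫ T h M = pr ϖ b M :=
  Formal2.modPowπ_modPowLE _ h M

theorem T_T {a b c : ℕ} (h : b ≤ a) (h' : c ≤ b) (M : X.Modules) :
    T (ϖ := ϖ) h M ≫ T h' M = T (h'.trans h) M := by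
  refine (cancel_epi (pr ϖ a M)).1 ?_
  rw [← Category.assoc, pr_T, pr_T, pr_T]

variable (ϖ)

/-- the torsion bound -/
def TB (c₀ : ℕ) (M : X.Modules) : Prop :=
  ∀ (x : X) (k : ℕ) (b : (M.presheaf.stalk x : Type u)), tt ϖ x ^ (c₀ + k) • b = 0 → tt ϖ x ^ c₀ • b = 0

variable (c₀ : ℕ)

/-- the image of multiplication by `ϖ^c₀` -/
abbrev I (M : X.Modules) : X.Modules := kernel (pr ϖ c₀ M)

/-- its inclusion -/
abbrev j (M : X.Modules) : I ϖ c₀ M ⟶ M := kernel.ι (pr ϖ c₀ M)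

/-- multiplication into it -/
def p (M : X.Modules) : M ⟶ I ϖ c₀ M := kernel.lift _ (μ ϖ c₀ M) (μ_pr c₀ M)

theorem p_j (M : X.Modules) : p ϖ c₀ M ≫ j ϖ c₀ M = μ ϖ c₀ M := kernel.lift_ι _ _ _

theorem j_p (M : X.Modules) : j ϖ c₀ M ≫ p ϖ c₀ M = μ ϖ c₀ (I ϖ c₀ M) := by
  refine (cancel_mono (j ϖ c₀ M)).1 ?_
  rw [Category.assoc, p_j, μ_natural]

theorem exists_j_eq (M : X.Modules) (x : X) (b) (hb : sm (pr ϖ c₀ M) x b = 0) :
    ∃ e, sm (j ϖ c₀ M) x e = b :=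
  (M1.exact_iff_stalk_eq_zero (ShortComplex.mk (j ϖ c₀ M) (pr ϖ c₀ M) (kernel.condition _))).1
    (ShortComplex.exact_of_f_is_kernel _ (kernelIsKernel _)) x b hb

/-- functoriality -/
def imap (φ : M ⟶ N) : I ϖ c₀ M ⟶ I ϖ c₀ N := kernel.lift _ (j ϖ c₀ M ≫ φ) (by
  obtain ⟨ψ, hψ⟩ := exists_desc (ϖ := ϖ) (φ ≫ pr ϖ c₀ N) (k := c₀)
    (by rw [← Category.assoc, μ_natural, Category.assoc, μ_pr, comp_zero])
  rw [Category.assoc, ← hψ, ← Category.assoc, kernel.condition, zero_comp])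

theorem imap_j (φ : M ⟶ N) : imap ϖ c₀ φ ≫ j ϖ c₀ N = j ϖ c₀ M ≫ φ := kernel.lift_ι _ _ _

variable {c₀} {ϖ}

theorem eq_zero_of_smul (hM : TB ϖ c₀ M) (x : X) (k : ℕ) (b : ((I ϖ c₀ M).presheaf.stalk x : Type u))
    (hb : tt ϖ x ^ k • b = 0) : b = 0 := by
  apply sm_injective (j ϖ c₀ M) x
  rw [map_zero]
  have h0 : sm (pr ϖ c₀ M) x (sm (j ϖ c₀ M) x b) = 0 := by rw [← sm_comp, kernel.condition, sm_zero]
  obtain ⟨e, he⟩ := (pr_eq_zero_iff c₀ M x _).1 h0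
  rw [← he]
  refine hM x k e ?_
  rw [add_comm, pow_add, mul_smul, he, ← map_smul, hb, map_zero]

theorem mono_μ_I (hM : TB ϖ c₀ M) (k : ℕ) : Mono (μ ϖ k (I ϖ c₀ M)) := by
  rw [M1.mono_iff_stalk]
  intro x
  show Function.Injective (sm (μ ϖ k (I ϖ c₀ M)) x)
  refine (injective_iff_map_eq_zero _).2 fun b hb => eq_zero_of_smul hM x k b ?_
  rwa [sm_μ] at hb

/-- if `π b = 0` at level `c₀ + N`, then `b` is a multiple in the torsion-free part -/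
theorem exists_eq_of_pr_eq_zero (N : ℕ) (M : X.Modules) (x : X) (b) (hb : sm (pr ϖ (c₀ + N) M) x b = 0) :
    ∃ e, sm (μ ϖ N (I ϖ c₀ M) ≫ j ϖ c₀ M) x e = b := by
  obtain ⟨e, rfl⟩ := (pr_eq_zero_iff (c₀ + N) M x b).1 hb
  refine ⟨sm (p ϖ c₀ M) x e, ?_⟩
  rw [sm_comp, sm_μ, map_smul, ← sm_comp, p_j, sm_μ, ← mul_smul, ← pow_add, add_comm]

theorem ιA_pr (N : ℕ) (M : X.Modules) : (μ ϖ N (I ϖ c₀ M) ≫ j ϖ c₀ M) ≫ pr ϖ (c₀ + N) M = 0 := by
  have h0 : j ϖ c₀ M ≫ pr ϖ c₀ M = 0 := kernel.condition _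
  obtain ⟨ψ, hψ⟩ := exists_desc (ϖ := ϖ) (μ ϖ N M ≫ pr ϖ (c₀ + N) M) (k := c₀)
    (by rw [← Category.assoc, ← μ_add, add_comm, μ_pr])
  rw [Category.assoc, ← Category.assoc, μ_natural, Category.assoc, ← hψ, ← Category.assoc, h0, zero_comp]

variable (ϖ c₀)

/-- the sequence `0 → ϖ^c₀ M → M → M / ϖ^(c₀+N) M → 0` -/
def SA (N : ℕ) (M : X.Modules) : ShortComplex X.Modules :=
  ShortComplex.mk (μ ϖ N (I ϖ c₀ M) ≫ j ϖ c₀ M) (pr ϖ (c₀ + N) M) (ιA_pr N M)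

theorem SA_shortExact (hM : TB ϖ c₀ M) (N : ℕ) : (SA ϖ c₀ N M).ShortExact where
  exact := (M1.exact_iff_stalk_eq_zero _).2 fun x b hb => exists_eq_of_pr_eq_zero N M x b hb
  mono_f := by
    haveI := mono_μ_I hM N
    exact mono_comp _ _
  epi_g := epi_pr _ _

/-- the quotient of the torsion-free part by `ϖ^N` -/
abbrev Q (N : ℕ) (M : X.Modules) : X.Modules := kernel (T (ϖ := ϖ) (Nat.le_add_right c₀ N) M)

/-- the projection to it -/
def q (N : ℕ) (M : X.Modules) : I ϖ c₀ M ⟶ Q ϖ c₀ N M :=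
  kernel.lift _ (j ϖ c₀ M ≫ pr ϖ (c₀ + N) M) (by rw [Category.assoc, pr_T]; exact kernel.condition _)

theorem q_ι (N : ℕ) (M : X.Modules) : q ϖ c₀ N M ≫ kernel.ι _ = j ϖ c₀ M ≫ pr ϖ (c₀ + N) M :=
  kernel.lift_ι _ _ _

theorem μ_q (N : ℕ) (M : X.Modules) : μ ϖ N (I ϖ c₀ M) ≫ q ϖ c₀ N M = 0 := by
  refine (cancel_mono (kernel.ι _)).1 ?_
  rw [Category.assoc, q_ι, ← Category.assoc, ιA_pr, zero_comp]

/-- the sequence `0 → ϖ^c₀ M → ϖ^c₀ M → Q → 0` -/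
def SI (N : ℕ) (M : X.Modules) : ShortComplex X.Modules :=
  ShortComplex.mk (μ ϖ N (I ϖ c₀ M)) (q ϖ c₀ N M) (μ_q ϖ c₀ N M)

theorem SI_shortExact (hM : TB ϖ c₀ M) (N : ℕ) : (SI ϖ c₀ N M).ShortExact where
  exact := (M1.exact_iff_stalk_eq_zero _).2 fun x b hb => by
    have h0 : sm (q ϖ c₀ N M) x b = 0 := hb
    have h1 : sm (pr ϖ (c₀ + N) M) x (sm (j ϖ c₀ M) x b) = 0 := by
      rw [← sm_comp, ← q_ι, sm_comp, h0, map_zero]
    obtain ⟨e, he⟩ := exists_eq_of_pr_eq_zero N M x _ h1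
    exact ⟨e, sm_injective (j ϖ c₀ M) x ((sm_comp _ _ x e).symm.trans he)⟩
  mono_f := mono_μ_I hM N
  epi_g := by
    refine (M1.epi_iff_stalk _).2 fun x z => ?_
    let zz : ((Q ϖ c₀ N M).presheaf.stalk x : Type u) := z
    obtain ⟨e, he⟩ := sm_surjective (pr ϖ (c₀ + N) M) x (sm (kernel.ι (T (Nat.le_add_right c₀ N) M)) x zz)
    obtain ⟨b, hb⟩ := exists_j_eq ϖ c₀ M x e (by
      rw [← pr_T (Nat.le_add_right c₀ N), sm_comp, he, ← sm_comp, kernel.condition, sm_zero])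
    refine ⟨b, sm_injective (kernel.ι (T (Nat.le_add_right c₀ N) M)) x ?_⟩
    show sm (kernel.ι _) x (sm (q ϖ c₀ N M) x b) = _
    rw [← sm_comp, q_ι, sm_comp, hb, he]

/-- transition between the quotients of the torsion-free part -/
def QT (N d : ℕ) (M : X.Modules) : Q ϖ c₀ (N + d) M ⟶ Q ϖ c₀ N M :=
  kernel.lift _ (kernel.ι _ ≫ T (Nat.add_le_add_left (Nat.le_add_right N d) c₀) M) (by
    rw [Category.assoc, T_T]
    exact kernel.condition _)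

theorem q_QT (N d : ℕ) (M : X.Modules) : q ϖ c₀ (N + d) M ≫ QT ϖ c₀ N d M = q ϖ c₀ N M := by
  refine (cancel_mono (kernel.ι _)).1 ?_
  rw [Category.assoc, QT, kernel.lift_ι, ← Category.assoc, q_ι, Category.assoc, pr_T, q_ι]

/-- the morphism of sequences in `SI` -/
def SI_hom (N d : ℕ) (M : X.Modules) : SI ϖ c₀ (N + d) M ⟶ SI ϖ c₀ N M where
  τ₁ := μ ϖ d (I ϖ c₀ M)
  τ₂ := 𝟙 _
  τ₃ := QT ϖ c₀ N d M
  comm₁₂ := by
    show μ ϖ d _ ≫ μ ϖ N _ = μ ϖ (N + d) _ ≫ 𝟙 _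
    rw [← μ_add, Category.comp_id]
  comm₂₃ := by
    show 𝟙 _ ≫ q ϖ c₀ N M = q ϖ c₀ (N + d) M ≫ QT ϖ c₀ N d M
    rw [q_QT, Category.id_comp]

/-- the morphism of sequences in `SA` -/
def SA_hom (N d : ℕ) (M : X.Modules) : SA ϖ c₀ (N + d) M ⟶ SA ϖ c₀ N M where
  τ₁ := μ ϖ d (I ϖ c₀ M)
  τ₂ := 𝟙 _
  τ₃ := T (Nat.add_le_add_left (Nat.le_add_right N d) c₀) M
  comm₁₂ := by
    show μ ϖ d _ ≫ μ ϖ N _ ≫ j ϖ c₀ M = (μ ϖ (N + d) _ ≫ j ϖ c₀ M) ≫ 𝟙 _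
    rw [← Category.assoc, ← μ_add, Category.comp_id]
  comm₂₃ := by
    show 𝟙 _ ≫ pr ϖ (c₀ + N) M = pr ϖ (c₀ + (N + d)) M ≫ T _ M
    rw [pr_T, Category.id_comp]

/-- `ι_N` followed by the multiplication into the torsion-free part is multiplication by a power -/
theorem ιA_p (N : ℕ) (M : X.Modules) :
    (μ ϖ N (I ϖ c₀ M) ≫ j ϖ c₀ M) ≫ p ϖ c₀ M = μ ϖ (c₀ + N) (I ϖ c₀ M) := by
  rw [Category.assoc, j_p, ← μ_add]

end Groth.Agent.DVRTriv4

namespace Groth.Agent.DVRTriv4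

open Groth.Agent Groth.Agent.CurveCoh17 Groth.Agent.CohFound

variable {X : Scheme.{u}} (A : Type u) [CommRing A] [X.Over (Spec (CommRingCat.of A))]

/-- naturality of the connecting map -/
theorem hdelta_natural {S S' : ShortComplex X.Modules} (hS : S.ShortExact) (hS' : S'.ShortExact) (f : S ⟶ S')
    (n : ℕ) (x : Coh.HH X S.X₃ n) :
    hmap A f.τ₁ (n + 1) (hdelta A hS n x) = hdelta A hS' n (hmap A f.τ₃ n x) := by
  apply (hhExt S'.X₁ (n + 1)).injective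
  rw [hhExt_hmap, hhExt_hdelta, hhExt_hdelta, hhExt_hmap]
  exact delta_natural (shortExact_abF hS) (shortExact_abF hS') ((abF X).mapShortComplex.map f) n ⊤ _

/-- multiplication acts on cohomology as the scalar -/
theorem hmap_smulMod (M : X.Modules) (a : A) (n : ℕ) (x : Coh.HH X M n) :
    hmap A (Formal.smulMod A M a) n x = a • x := by
  apply (hhExt M n).injective
  refine (hhExt_hmap A _ n x).trans ?_
  exact (hhExt_smul n (Coh.toGlobal (X ↘ Spec (CommRingCat.of A)) a) x).symm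

end Groth.Agent.DVRTriv4
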