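import Groth.Agent.Lib.DVRTriv4.Coh
import Groth.Agent.Lib.FGA3.FormalTriv
import Groth.Agent.Lib.CurveCoh17.Bases
import Groth.Agent.Lib.CurveCoh17.Section
import Groth.Agent.Lib.CohFound.Loc
import Groth.Agent.Lib.ZConn5.Connected

/-!
Over a discrete valuation ring a finite locally free module on a proper scheme, free on the generic
fibre and modulo a high enough power of the uniformizer, is free.
-/

set_option autoImplicit false
set_option linter.style.haveILetI false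
set_option backward.isDefEq.respectTransparency false
set_option backward.isDefEq.respectTransparency.types false
set_option maxHeartbeats 1000000

universe u

open CategoryTheory CategoryTheory.Limits AlgebraicGeometry Opposite TopologicalSpace

noncomputable section

namespace Groth.Agent.DVRTriv4

open Groth.Agent Groth.Agent.FormalH7 Groth.Agent.CurveCoh17 Groth.Agent.P1Split

variable {R : Type u} [CommRing R] {X : Scheme.{u}} [X.Over (Spec (CommRingCat.of R))] {ϖ : R}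
  {M N : X.Modules} {c₀ : ℕ}

/-! ### torsion of the structure sheaf -/

theorem exists_tb_const (ϖ : R) [CompactSpace X] [IsLocallyNoetherian X] :
    ∃ c₀ : ℕ, ∀ (x : X) (k : ℕ) (s : X.presheaf.stalk x), tt ϖ x ^ (c₀ + k) * s = 0 → tt ϖ x ^ c₀ * s = 0 := by
  classical
  have hloc : ∀ x : X, ∃ U : X.Opens, x ∈ U ∧ ∃ c : ℕ, ∀ y ∈ U, ∀ (k : ℕ) (s : X.presheaf.stalk y),
      tt ϖ y ^ (c + k) * s = 0 → tt ϖ y ^ c * s = 0 := by
    intro x
    obtain ⟨U, hU, hxU, -⟩ := exists_isAffineOpen_mem_and_subset (x := x) (U := (⊤ : X.Opens)) trivial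
    haveI : IsNoetherianRing Γ(X, U) := IsLocallyNoetherian.component_noetherian ⟨U, hU⟩
    let r : Γ(X, U) := mult X ϖ U
    let K : ℕ →o Ideal Γ(X, U) :=
      ⟨fun k => LinearMap.ker (LinearMap.mulLeft Γ(X, U) (r ^ k)), fun a b hab z hz => by
        obtain ⟨d, rfl⟩ := Nat.exists_eq_add_of_le hab
        simp only [LinearMap.mem_ker, LinearMap.mulLeft_apply] at hz ⊢
        rw [pow_add, mul_comm (r ^ a), mul_assoc, hz, mul_zero]⟩
    obtain ⟨c, hc⟩ := monotone_stabilizes_iff_noetherian.2 inferInstance K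
    refine ⟨U, hxU, c, fun y hy k s hs => ?_⟩
    let := TopCat.Presheaf.algebra_section_stalk X.presheaf (⟨y, hy⟩ : U)
    haveI := hU.isLocalization_stalk ⟨y, hy⟩
    obtain ⟨⟨a, d⟩, hd⟩ := IsLocalization.surj (hU.primeIdealOf ⟨y, hy⟩).asIdeal.primeCompl s
    have ht : tt ϖ y = algebraMap Γ(X, U) (X.presheaf.stalk y) r := (germ_mult_eq hy).symm
    have h1 : algebraMap Γ(X, U) (X.presheaf.stalk y) (r ^ (c + k) * a) = 0 := by
      rw [map_mul, map_pow, ← ht, ← hd, ← mul_assoc, hs, zero_mul]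
    obtain ⟨e, he⟩ := (IsLocalization.map_eq_zero_iff (hU.primeIdealOf ⟨y, hy⟩).asIdeal.primeCompl _ _).1 h1
    have h2 : e.1 * a ∈ K (c + k) := by
      show r ^ (c + k) * (e.1 * a) = 0
      rw [← mul_left_comm, he]
    rw [← hc _ (Nat.le_add_right c k)] at h2
    change r ^ c * (e.1 * a) = 0 at h2
    have h3 : algebraMap Γ(X, U) (X.presheaf.stalk y) (r ^ c * (e.1 * a)) = 0 := by rw [h2, map_zero]
    rw [map_mul, map_mul, map_pow, ← ht, ← hd, mul_left_comm] at h3
    rw [(IsLocalization.map_units _ e).mul_right_eq_zero, ← mul_assoc] at h3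
    exact (IsLocalization.map_units _ d).mul_left_eq_zero.1 h3
  choose U hxU c hc using hloc
  obtain ⟨s, hs⟩ := isCompact_univ.elim_finite_subcover (fun x => (U x : Set X)) (fun x => (U x).2)
    fun x _ => Set.mem_iUnion.2 ⟨x, hxU x⟩
  refine ⟨s.sup c, fun y k z hz => ?_⟩
  obtain ⟨x, hx, hyx⟩ := Set.mem_iUnion₂.1 (hs (Set.mem_univ y))
  obtain ⟨l, hl⟩ := Nat.exists_eq_add_of_le (Finset.le_sup (f := c) hx)
  rw [hl, add_assoc] at hz
  rw [hl, add_comm, pow_add, mul_assoc, hc x y hyx (l + k) z hz, mul_zero]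

theorem tb_of_isFinLocFree (h : ∀ (x : X) (k : ℕ) (s : X.presheaf.stalk x),
    tt ϖ x ^ (c₀ + k) * s = 0 → tt ϖ x ^ c₀ * s = 0) (hM : FlatMod.IsFinLocFree M) : TB ϖ c₀ M := by
  intro x k b hb
  haveI := ((M1.isFinLocFree_iff M).1 hM).2 x
  let B := Module.Free.chooseBasis (X.presheaf.stalk x) (M.presheaf.stalk x)
  refine B.ext_elem fun i => ?_
  have h1 := congrArg (fun z => B.repr z i) hb
  simp only [map_smul, map_zero, Finsupp.smul_apply, Finsupp.zero_apply, smul_eq_mul] at h1 ⊢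
  exact h x k _ h1

theorem isCoh_freeMod [IsLocallyNoetherian X] (r : ℕ) : Coh.IsCoh (FlatMod.freeMod X r) :=
  (M1.isCoh_iff_isFP _).2 (M1.isFP_of_isFinLocFree (M2.isFinLocFree_of_ofRank (M2.isFinLocFreeOfRank_freeMod X r)))

/-! ### copies -/

theorem imap_comp (c₀ : ℕ) {L : X.Modules} (φ : M ⟶ N) (ψ : N ⟶ L) :
    imap ϖ c₀ (φ ≫ ψ) = imap ϖ c₀ φ ≫ imap ϖ c₀ ψ := by
  refine (cancel_mono (j ϖ c₀ L)).1 ?_
  rw [imap_j, Category.assoc, imap_j, ← Category.assoc (imap ϖ c₀ φ), imap_j, Category.assoc]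

theorem bound_free (i c : ℕ)
    (hc : ∀ (x : Coh.HH X (I ϖ c₀ (Coh.structureModule X)) i) (k : ℕ), ϖ ^ k • x = 0 → ϖ ^ c • x = 0) (r : ℕ)
    (x : Coh.HH X (I ϖ c₀ (FlatMod.freeMod X r)) i) (k : ℕ) (hx : ϖ ^ k • x = 0) : ϖ ^ c • x = 0 := by
  let F : Fin r → X.Modules := fun _ => Coh.structureModule X
  have hsum : (∑ l, imap ϖ c₀ (proj F l) ≫ imap ϖ c₀ (Sigma.ι F l)) = 𝟙 (I ϖ c₀ (FlatMod.freeMod X r)) := by
    refine (cancel_mono (j ϖ c₀ (FlatMod.freeMod X r))).1 ?_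
    rw [Preadditive.sum_comp, Category.id_comp]
    have : ∀ l, (imap ϖ c₀ (proj F l) ≫ imap ϖ c₀ (Sigma.ι F l)) ≫ j ϖ c₀ (∐ F) =
        j ϖ c₀ (∐ F) ≫ (proj F l ≫ Sigma.ι F l) := fun l => by rw [← imap_comp, imap_j]
    refine (Finset.sum_congr rfl fun l _ => this l).trans ?_
    rw [← Preadditive.comp_sum, sum_proj_ι, Category.comp_id]
  let Φ : ((I ϖ c₀ (FlatMod.freeMod X r)) ⟶ (I ϖ c₀ (FlatMod.freeMod X r))) →+
      Coh.HH X (I ϖ c₀ (FlatMod.freeMod X r)) i :=
    AddMonoidHom.mk' (fun φ => hmap R φ i x) fun φ ψ => hmap₀_add φ ψ i x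
  have h1 : Φ (∑ l, imap ϖ c₀ (proj F l) ≫ imap ϖ c₀ (Sigma.ι F l)) = x := by
    rw [hsum]; exact hmap_id R _ i x
  rw [map_sum] at h1
  rw [← h1, Finset.smul_sum]
  refine Finset.sum_eq_zero fun l _ => ?_
  show ϖ ^ c • hmap R (imap ϖ c₀ (proj F l) ≫ imap ϖ c₀ (Sigma.ι F l)) i x = 0
  rw [hmap_comp, ← map_smul, hc _ k (by rw [← map_smul, hx, map_zero]), map_zero]

/-! ### trivializations modulo powers -/

theorem nonempty_P_iso [IsLocallyNoetherian X] {I : Ideal R} {n : ℕ} (J : Ideal R) (hJ : J = I ^ n)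
    (hM : Coh.IsCoh M) (hN : Coh.IsCoh N)
    (e : (Scheme.Modules.pullback (FGA3.iq (X ↘ Spec (CommRingCat.of R)) J)).obj M ≅
      (Scheme.Modules.pullback (FGA3.iq (X ↘ Spec (CommRingCat.of R)) J)).obj N) :
    Nonempty (Formal.modPow I n M ≅ Formal.modPow I n N) := by
  subst hJ
  let f := X ↘ Spec (CommRingCat.of R)
  let i := FGA3.iq f (I ^ n)
  letI : (pullback f (FGA3.spQ (I ^ n))).Over (Spec (CommRingCat.of R)) := ⟨i ≫ f⟩
  have key : ∀ {L : X.Modules}, Coh.IsCoh L → Nonempty (Formal.modPow I n L ≅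
      (Scheme.Modules.pushforward i).obj ((Scheme.Modules.pullback i).obj L)) := by
    intro L hL
    let Q := Formal.modPow I n L
    let π := Formal.modPowπ I n L
    have hQ : Coh.IsCoh Q := Algz27C.isCoh_modPow (I := I) n hL
    haveI hu : IsIso ((Scheme.Modules.pullbackPushforwardAdjunction i).unit.app Q) := by
      refine M1.isIso_unit_of_ker_smul i Q hQ.1 fun U a ha s => ?_
      rw [FGA3.ideal_ker_iq] at ha
      induction ha using Submodule.span_induction with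
      | mem y hy =>
        obtain ⟨c, hc, rfl⟩ := hy
        have h0 : (Formal.smulMod R Q c).app U.1 s = 0 := by
          rw [FormalH7.killedBy_modPow I n L c hc]
          rfl
        rw [FormalH7.smulMod_app] at h0
        exact h0
      | zero => rw [zero_smul]
      | add y z _ _ hy hz => rw [add_smul, hy, hz, add_zero]
      | smul r y _ hy => rw [smul_eq_mul, mul_smul, hy, smul_zero]
    have hd : IsIso (cokernel.desc (Formal.smulFamily (I ^ n) L) π (cokernel.condition _)) := by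
      have : cokernel.desc (Formal.smulFamily (I ^ n) L) π (cokernel.condition _) = 𝟙 _ :=
        coequalizer.hom_ext ((cokernel.π_desc _ _ _).trans (Category.comp_id _).symm)
      rw [this]
      exact IsIso.id _
    obtain ⟨h', hd'⟩ := FormalH7.isQuot_pullback i rfl π (cokernel.condition _) hd
    have hk : Formal.KilledBy (I ^ n) ((Scheme.Modules.pullback i).obj L) := fun c hc => by
      have hz : Coh.toGlobal ((pullback f (FGA3.spQ (I ^ n))) ↘ Spec (CommRingCat.of R)) c = 0 := by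
        have hw : (pullback f (FGA3.spQ (I ^ n))) ↘ Spec (CommRingCat.of R) =
            pullback.snd f (FGA3.spQ (I ^ n)) ≫ FGA3.spQ (I ^ n) := pullback.condition
        rw [hw]
        show ((pullback.snd f (FGA3.spQ (I ^ n)) ≫ FGA3.spQ (I ^ n)).appTop)
          ((Scheme.ΓSpecIso (CommRingCat.of R)).inv c) = 0
        have h := (ConcreteCategory.congr_hom
          (Scheme.ΓSpecIso_inv_naturality (CommRingCat.ofHom (Ideal.Quotient.mk (I ^ n)))) c).symm
        rw [Scheme.Hom.comp_appTop, CategoryTheory.comp_apply]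
        refine (congrArg _ ?_).trans (map_zero _)
        refine h.trans ?_
        show (Scheme.ΓSpecIso (CommRingCat.of (R ⧸ I ^ n))).inv (Ideal.Quotient.mk (I ^ n) c) = 0
        rw [Ideal.Quotient.eq_zero_iff_mem.2 hc, map_zero]
      refine Scheme.Modules.hom_ext _ _ fun U => ?_
      ext s
      rw [FormalH7.smulMod_app]
      show ((pullback f (FGA3.spQ (I ^ n))).presheaf.map (homOfLE (le_top : U ≤ ⊤)).op (Coh.toGlobal _ c)) • s = 0
      rw [hz, map_zero, zero_smul]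
    haveI := hd'
    haveI : IsIso (cokernel.π (Formal.smulFamily (I ^ n) ((Scheme.Modules.pullback i).obj L))) :=
      FormalH7.isIso_modPowπ hk
    haveI : IsIso ((Scheme.Modules.pullback i).map π) := by
      rw [← cokernel.π_desc _ _ h']
      exact IsIso.comp_isIso' inferInstance hd'
    exact ⟨@asIso _ _ _ _ ((Scheme.Modules.pullbackPushforwardAdjunction i).unit.app Q) hu ≪≫
      (Scheme.Modules.pushforward i).mapIso (asIso ((Scheme.Modules.pullback i).map π)).symm⟩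
  obtain ⟨a⟩ := key hM
  obtain ⟨b⟩ := key hN
  exact ⟨a ≪≫ (Scheme.Modules.pushforward i).mapIso e ≪≫ b.symm⟩

theorem card_le_of_P_iso {a b k : ℕ} (hk : 1 ≤ k) (η : P ϖ k M ≅ P ϖ k N) (y : X) (ht : ¬ IsUnit (tt ϖ y))
    (eM : (M.presheaf.stalk y : Type u) ≃ₗ[X.presheaf.stalk y] (Fin a → X.presheaf.stalk y))
    (eN : (N.presheaf.stalk y : Type u) ≃ₗ[X.presheaf.stalk y] (Fin b → X.presheaf.stalk y)) : b ≤ a := by
  choose u hu using fun i : Fin a =>
    sm_surjective (pr ϖ k N) y (sm η.hom y (sm (pr ϖ k M) y (eM.symm (Pi.single i 1))))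
  let L := Fintype.linearCombination (X.presheaf.stalk y) u
  have hL : (sm (pr ϖ k N) y).comp L = ((sm η.hom y).comp (sm (pr ϖ k M) y)).comp eM.symm.toLinearMap := by
    refine LinearMap.pi_ext' fun i => LinearMap.ext_ring ?_
    simp [L, Fintype.linearCombination_apply_single, hu]
  haveI : Module.Finite (X.presheaf.stalk y) (N.presheaf.stalk y : Type u) := Module.Finite.equiv eN.symm
  have hsurj : Function.Surjective L := by
    rw [← LinearMap.range_eq_top]
    refine top_unique (Submodule.le_of_le_smul_of_le_jacobson_bot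
      (I := Ideal.span {tt ϖ y ^ k}) Module.Finite.fg_top ?_ ?_)
    · rw [IsLocalRing.jacobson_eq_maximalIdeal ⊥ bot_ne_top, Ideal.span_singleton_le_iff_mem]
      exact Ideal.pow_mem_of_mem _ ((IsLocalRing.mem_maximalIdeal _).2 ht) k hk
    intro z _
    obtain ⟨w, hw⟩ := sm_surjective (pr ϖ k M) y (sm η.inv y (sm (pr ϖ k N) y z))
    have h0 : sm (pr ϖ k N) y (z - L (eM w)) = 0 := by
      have h1 := LinearMap.congr_fun hL (eM w)
      simp only [LinearMap.comp_apply, LinearEquiv.coe_coe, LinearEquiv.symm_apply_apply] at h1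
      rw [map_sub, h1, hw, ← sm_comp η.inv, Iso.inv_hom_id, sm_id, sub_self]
    obtain ⟨d, hd⟩ := (pr_eq_zero_iff k N y _).1 h0
    rw [show z = L (eM w) + tt ϖ y ^ k • d by rw [hd]; abel]
    exact Submodule.add_mem_sup ⟨_, rfl⟩ (Submodule.smul_mem_smul (Ideal.mem_span_singleton_self _) trivial)
  simpa using card_le_of_surjective (X.presheaf.stalk y) (eN.toLinearMap.comp L) (eN.surjective.comp hsurj)

/-! ### points -/

theorem mem_basicOpen_iff (ϖ : R) (x : X) : IsUnit (tt ϖ x) ↔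
    x ∈ X.basicOpen (show Γ(X, ⊤) from Coh.toGlobal (X ↘ Spec (CommRingCat.of R)) ϖ) := by
  rw [← (show mult X ϖ ⊤ = Coh.toGlobal (X ↘ Spec (CommRingCat.of R)) ϖ by simp [FormalH7.mult]),
    ← germ_mult_eq (show x ∈ (⊤ : X.Opens) from trivial)]
  exact (X.mem_basicOpen (mult X ϖ ⊤) x trivial).symm

theorem exists_special [IsLocalRing R] (hϖ : ϖ ∈ IsLocalRing.maximalIdeal R)
    [IsProper (X ↘ Spec (CommRingCat.of R))] (x : X) : ∃ y, x ⤳ y ∧ ¬ IsUnit (tt ϖ y) := by
  let f := X ↘ Spec (CommRingCat.of R)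
  have hcl := f.isClosedMap _ (isClosed_closure (s := ({x} : Set X)))
  obtain ⟨y, hy, hyc⟩ := (IsLocalRing.specializes_closedPoint (f x)).mem_closed hcl ⟨x, subset_closure rfl, rfl⟩
  refine ⟨y, specializes_iff_mem_closure.2 hy, fun hu => ?_⟩
  rw [mem_basicOpen_iff, ZConn5.basicOpen_toGlobal] at hu
  change ϖ ∉ (f y).asIdeal at hu
  rw [hyc] at hu
  exact hu hϖ

/-- Stalk bases from a basis on an open. -/
def stalkEquiv {r : ℕ} {U : X.Opens} {e : Fin r → Γ(M, U)} (he : IsBas M U e) {x : X} (hx : x ∈ U) :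
    (M.presheaf.stalk x : Type u) ≃ₗ[X.presheaf.stalk x] (Fin r → X.presheaf.stalk x) :=
  (LinearEquiv.ofBijective
    (Fintype.linearCombination (X.presheaf.stalk x) fun i => (M.presheaf.germ U x hx (e i) : (M.presheaf.stalk x : Type u)))
    (he.stalk hx)).symm

theorem isBas_freeMod (X : Scheme.{u}) (r : ℕ) :
    IsBas (FlatMod.freeMod X r) ⊤ fun i => (Sigma.ι (fun _ : Fin r => Coh.structureModule X) i).app ⊤ (M1.one ⊤) :=
  isBas_coprod (fun _ : Fin r => Coh.structureModule X) (fun _ => M1.one ⊤) fun _ => isGen_one ⊤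

theorem rank_eq {a b k : ℕ} (hk : 1 ≤ k) (η : P ϖ k (FlatMod.freeMod X a) ≅ P ϖ k N) (y : X) (ht : ¬ IsUnit (tt ϖ y))
    {U : X.Opens} (hy : y ∈ U) {e : Fin b → Γ(N, U)} (he : IsBas N U e) : b = a := by
  let eM := stalkEquiv (isBas_freeMod X a) (show y ∈ (⊤ : X.Opens) from trivial)
  let eN := stalkEquiv he hy
  exact le_antisymm (card_le_of_P_iso hk η y ht eM eN) (card_le_of_P_iso hk η.symm y ht eN eM)

/-- Everywhere locally, the module has a basis of the size of the trivialization on the special fibre. -/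
theorem exists_basis_nhd [IsLocalRing R] (hϖ : ϖ ∈ IsLocalRing.maximalIdeal R)
    [IsProper (X ↘ Spec (CommRingCat.of R))] (hN : FlatMod.IsFinLocFree N) {a k : ℕ} (hk : 1 ≤ k)
    (η : P ϖ k (FlatMod.freeMod X a) ≅ P ϖ k N) (x : X) :
    ∃ (D : X.Opens) (e : Fin a → Γ(N, D)), x ∈ D ∧ IsBas N D e := by
  obtain ⟨y, hxy, hy⟩ := exists_special hϖ x
  obtain ⟨U, b, hyU, ⟨φ⟩⟩ := hN y
  have hb := isBas_of_restrict U.ι N ((isBas_freeMod (U : Scheme.{u}) b).map_iso φ.symm)
  have hy' : y ∈ U.ι ''ᵁ ⊤ := by simpa using hyU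
  obtain rfl := rank_eq hk η y hy hy' hb
  exact ⟨U.ι ''ᵁ ⊤, _, hxy.mem_open (U.ι ''ᵁ ⊤).2 hy', hb⟩

/-- The module has a basis of the same size where the uniformizer is invertible. -/
theorem exists_generic_basis {a : ℕ} (hloc : ∀ x : X, ∃ (D : X.Opens) (e : Fin a → Γ(N, D)), x ∈ D ∧ IsBas N D e)
    (U : X.Opens) (hU : ∃ (b : ℕ) (e : Fin b → Γ(N, U)), IsBas N U e) :
    ∃ e : Fin a → Γ(N, U), IsBas N U e := by
  obtain ⟨b, e, he⟩ := hU
  by_cases hne : ∃ x, x ∈ U
  · obtain ⟨x, hx⟩ := hne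
    obtain ⟨D, e', hxD, he'⟩ := hloc x
    have h := ((stalkEquiv he hx).symm.trans (stalkEquiv he' hxD)).finrank_eq
    rw [Module.finrank_fin_fun, Module.finrank_fin_fun] at h
    subst h
    exact ⟨e, he⟩
  · exact ⟨fun _ => 0, isBas_of_stalk fun x hx => absurd ⟨x, hx⟩ hne⟩

theorem sm_desc_single {r : ℕ} (w : Fin r → Γ(N, ⊤)) (x : X) (l : Fin r) :
    sm (Sigma.desc fun i => M1.secHom (w i) : FlatMod.freeMod X r ⟶ N) x
      ((FlatMod.freeMod X r).presheaf.germ ⊤ x trivial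
        ((Sigma.ι (fun _ : Fin r => Coh.structureModule X) l).app ⊤ (M1.one ⊤))) =
      N.presheaf.germ ⊤ x trivial (w l) := by
  refine (M1.germ_naturality _ ⊤ x trivial _).trans ?_
  refine congrArg _ ?_
  rw [← CategoryTheory.comp_apply, ← Scheme.Modules.Hom.comp_app, Sigma.ι_desc]
  exact M1.secHom_app_one (w l)

/-- Scaled basis sections on `U` extend to a morphism from the free module, bijective over `U`. -/
theorem exists_generic_hom [QuasiSeparatedSpace X] [CompactSpace X] {a : ℕ} (hN : Coh.IsQCoh N) (ϖ : R)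
    (e : Fin a → Γ(N, X.basicOpen (show Γ(X, ⊤) from Coh.toGlobal (X ↘ Spec (CommRingCat.of R)) ϖ)))
    (he : IsBas N _ e) :
    ∃ φ : FlatMod.freeMod X a ⟶ N, ∀ x : X, IsUnit (tt ϖ x) → Function.Bijective (sm φ x) := by
  classical
  haveI := hN
  let g : Γ(X, ⊤) := Coh.toGlobal (X ↘ Spec (CommRingCat.of R)) ϖ
  have hle : X.basicOpen g ≤ (⊤ : X.Opens) ⊓ X.basicOpen g := le_inf le_top le_rfl
  have hs := (CohFound.locAll_of_isCompact N g (U := (⊤ : X.Opens)) isCompact_univ 0).2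
  have hex : ∀ i, ∃ (k : ℕ) (w : Γ(N, ⊤)), ∀ (x : X) (hx : x ∈ X.basicOpen g),
      N.presheaf.germ ⊤ x trivial w = tt ϖ x ^ k • (N.presheaf.germ _ x hx (e i) : (N.presheaf.stalk x : Type u)) := by
    intro i
    let t₀ : Γ(N, (⊤ : X.Opens) ⊓ X.basicOpen g) := M1.mres N inf_le_right (e i)
    obtain ⟨k, η, hη⟩ := hs ((CohFound.hc0 ((CohFound.abF X).obj N) ((⊤ : X.Opens) ⊓ X.basicOpen g)).symm t₀)
    refine ⟨k, CohFound.hc0 ((CohFound.abF X).obj N) ⊤ η, fun x hx => ?_⟩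
    have h := congrArg (CohFound.hc0 ((CohFound.abF X).obj N) ((⊤ : X.Opens) ⊓ X.basicOpen g)) hη
    rw [CohFound.hc0_rs, CohFound.hc0_mp, AddEquiv.apply_symm_apply] at h
    change M1.mres N (inf_le_left : (⊤ : X.Opens) ⊓ X.basicOpen g ≤ ⊤) _ =
      M1.ores (le_top : (⊤ : X.Opens) ⊓ X.basicOpen g ≤ ⊤) (g ^ k) • t₀ at h
    have hx' : x ∈ (⊤ : X.Opens) ⊓ X.basicOpen g := ⟨trivial, hx⟩
    have h' := congrArg (N.presheaf.germ _ x hx') h
    rw [M1.germ_mres, M1.germ_smul, M1.germ_mres] at h'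
    refine h'.trans ?_
    congr 1
    rw [map_pow, map_pow]
    congr 1
    refine (X.presheaf.germ_res_apply _ x hx' g).trans ?_
    rw [← germ_mult_eq (show x ∈ (⊤ : X.Opens) from trivial)]
    simp [FormalH7.mult, g]
  choose k w hw using hex
  let φ : FlatMod.freeMod X a ⟶ N := Sigma.desc fun i => M1.secHom (w i)
  refine ⟨φ, fun x hx => ?_⟩
  have hxU := (mem_basicOpen_iff ϖ x).1 hx
  let eM := stalkEquiv (isBas_freeMod X a) (show x ∈ (⊤ : X.Opens) from trivial)
  let eN := stalkEquiv he hxU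
  have hb : Function.Bijective fun c : Fin a → X.presheaf.stalk x => fun i => c i * tt ϖ x ^ k i := by
    constructor
    · exact fun c c' h => funext fun i => (hx.pow (k i)).mul_left_injective (congrFun h i)
    · intro c
      refine ⟨fun i => c i * ↑(hx.pow (k i)).unit⁻¹, funext fun i => ?_⟩
      show c i * _ * _ = c i
      rw [mul_assoc, IsUnit.val_inv_mul, mul_one]
  have hcomp : ⇑(sm φ x) ∘ ⇑eM.symm = ⇑eN.symm ∘ fun c : Fin a → X.presheaf.stalk x => fun i => c i * tt ϖ x ^ k i := by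
    funext c
    show sm φ x (eM.symm c) = eN.symm fun i => c i * tt ϖ x ^ k i
    simp only [eM, eN, stalkEquiv, LinearEquiv.symm_symm, LinearEquiv.ofBijective_apply,
      Fintype.linearCombination_apply, map_sum, map_smul]
    refine Finset.sum_congr rfl fun i _ => ?_
    rw [mul_smul, ← hw i x hxU]
    exact congrArg (c i • ·) (sm_desc_single w x i)
  exact (Function.Bijective.of_comp_iff (sm φ x) eM.symm.bijective).1 (hcomp ▸ eN.symm.bijective.comp hb)

/-! ### the generic fibre -/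

theorem exists_isBas_generic [IsDomain R] [IsDiscreteValuationRing R] (hϖ : Irreducible ϖ)
    (hgen : ∃ r : ℕ, Nonempty ((Scheme.Modules.pullback (pullback.fst (X ↘ Spec (CommRingCat.of R))
      (Spec.map (CommRingCat.ofHom (algebraMap R (FractionRing R)))))).obj N ≅ FlatMod.freeMod _ r)) :
    ∃ (b : ℕ) (e : Fin b → Γ(N, X.basicOpen (show Γ(X, ⊤) from Coh.toGlobal (X ↘ Spec (CommRingCat.of R)) ϖ))),
      IsBas N _ e := by
  let K := FractionRing R
  let g := Spec.map (CommRingCat.ofHom (algebraMap R K))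
  haveI : IsLocalization.Away ϖ K := by
    refine ⟨?_, ?_, ?_⟩
    · rintro ⟨_, m, rfl⟩
      refine IsUnit.mk0 _ ?_
      rw [map_pow]
      exact pow_ne_zero m fun h => hϖ.ne_zero ((IsFractionRing.to_map_eq_zero_iff (K := K)).1 h)
    · intro z
      obtain ⟨⟨a, b⟩, hab⟩ := IsLocalization.surj (nonZeroDivisors R) z
      obtain ⟨m, v, hm⟩ := IsDiscreteValuationRing.eq_unit_mul_pow_irreducible (nonZeroDivisors.coe_ne_zero b) hϖ
      refine ⟨⟨a * ↑v⁻¹, ϖ ^ m, m, rfl⟩, ?_⟩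
      show z * algebraMap R K (ϖ ^ m) = algebraMap R K (a * ↑v⁻¹)
      have hv : algebraMap R K ↑v * algebraMap R K ↑v⁻¹ = 1 := by rw [← map_mul, Units.mul_inv, map_one]
      rw [map_mul, ← hab, hm, map_mul]
      linear_combination (-(z * algebraMap R K (ϖ ^ m))) * hv
    · intro x y hxy
      exact ⟨1, by rw [IsFractionRing.injective R K hxy]⟩
  haveI : IsOpenImmersion g := IsOpenImmersion.of_isLocalization ϖ
  obtain ⟨r, ⟨φ⟩⟩ := hgen
  let q := pullback.fst (X ↘ Spec (CommRingCat.of R)) g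
  have hb := isBas_of_restrict q N ((isBas_freeMod _ r).map_iso
    ((Scheme.Modules.restrictFunctorIsoPullback q).app N ≪≫ φ).symm)
  have himg : X.basicOpen (show Γ(X, ⊤) from Coh.toGlobal (X ↘ Spec (CommRingCat.of R)) ϖ) ≤ q ''ᵁ ⊤ := by
    intro x hx
    rw [ZConn5.basicOpen_toGlobal] at hx
    rw [Scheme.Hom.image_top_eq_opensRange]
    show x ∈ Set.range q
    rw [show Set.range q = (X ↘ Spec (CommRingCat.of R)) ⁻¹' Set.range g from Scheme.Pullback.range_fst _ _]
    show (X ↘ Spec (CommRingCat.of R)) x ∈ Set.range g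
    have hr : Set.range g = (PrimeSpectrum.basicOpen ϖ : Set (PrimeSpectrum R)) :=
      PrimeSpectrum.localization_away_comap_range K ϖ
    rw [hr]
    exact hx
  exact ⟨r, _, hb.mres himg⟩

/-! ### the theorem -/

theorem main [IsDomain R] [IsDiscreteValuationRing R] (hϖ : Irreducible ϖ)
    [IsProper (X ↘ Spec (CommRingCat.of R))] :
    ∃ n : ℕ, ∀ (E : X.Modules), FlatMod.IsFinLocFree E →
      (∃ r : ℕ, Nonempty ((Scheme.Modules.pullback (pullback.fst (X ↘ Spec (CommRingCat.of R))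
        (Spec.map (CommRingCat.ofHom (algebraMap R (FractionRing R)))))).obj E ≅ FlatMod.freeMod _ r)) →
      (∃ r : ℕ, Nonempty ((Scheme.Modules.pullback (pullback.fst (X ↘ Spec (CommRingCat.of R))
        (Spec.map (CommRingCat.ofHom (Ideal.Quotient.mk (Ideal.span {ϖ ^ n})))))).obj E ≅ FlatMod.freeMod _ r)) →
      ∃ r : ℕ, Nonempty (E ≅ FlatMod.freeMod X r) := by
  let f := X ↘ Spec (CommRingCat.of R)
  haveI : IsLocallyNoetherian X := LocallyOfFiniteType.isLocallyNoetherian f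
  haveI : CompactSpace X := QuasiCompact.compactSpace_of_compactSpace f
  haveI : QuasiSeparatedSpace X := quasiSeparatedSpace_of_quasiSeparated f
  have hϖm : ϖ ∈ IsLocalRing.maximalIdeal R := (IsLocalRing.mem_maximalIdeal _).2 hϖ.not_isUnit
  obtain ⟨c₀, hc₀⟩ := exists_tb_const (X := X) ϖ
  haveI := finite_HH_I (ϖ := ϖ) (c₀ := c₀) (M1.isCoh_structureModule X) 1
  haveI := finite_HH_I (ϖ := ϖ) (c₀ := c₀) (M1.isCoh_structureModule X) 2
  obtain ⟨c₁, hc₁⟩ := exists_torsion_bound ϖ (Coh.HH X (I ϖ c₀ (Coh.structureModule X)) 1)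
  obtain ⟨c₂, hc₂⟩ := exists_torsion_bound ϖ (Coh.HH X (I ϖ c₀ (Coh.structureModule X)) 2)
  let c := c₁ + c₂
  have h1 : ∀ (x : Coh.HH X (I ϖ c₀ (Coh.structureModule X)) 1) (k : ℕ), ϖ ^ k • x = 0 → ϖ ^ c • x = 0 :=
    fun x k hx => by
      show ϖ ^ (c₁ + c₂) • x = 0
      rw [add_comm, pow_add, mul_smul, hc₁ x k hx, smul_zero]
  have h2 : ∀ (x : Coh.HH X (I ϖ c₀ (Coh.structureModule X)) 2) (k : ℕ), ϖ ^ k • x = 0 → ϖ ^ c • x = 0 :=
    fun x k hx => by
      show ϖ ^ (c₁ + c₂) • x = 0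
      rw [pow_add, mul_smul, hc₂ x k hx, smul_zero]
  let n := c₀ + (c + 1 + c)
  refine ⟨n, fun E hE hgen hsp => ?_⟩
  obtain ⟨a, ⟨e⟩⟩ := hsp
  let F := FlatMod.freeMod X a
  have hEc : Coh.IsCoh E := (M1.isCoh_iff_isFP _).2 (M1.isFP_of_isFinLocFree hE)
  have hFc : Coh.IsCoh F := isCoh_freeMod a
  obtain ⟨η⟩ := nonempty_P_iso (I := Ideal.span ({ϖ} : Set R)) (n := n) (Ideal.span {ϖ ^ n})
    (Ideal.span_singleton_pow ϖ n).symm hFc hEc (M2.freeModPullbackIso _ a ≪≫ e.symm)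
  have hn : 1 ≤ n := by omega
  have hloc := exists_basis_nhd hϖm hE hn η
  obtain ⟨eU, heU⟩ := exists_generic_basis hloc _ (exists_isBas_generic hϖ hgen)
  obtain ⟨φ, hφ⟩ := exists_generic_hom hEc.1 ϖ eU heU
  have hTE : TB ϖ c₀ E := tb_of_isFinLocFree hc₀ hE
  have hTF : TB ϖ c₀ F :=
    tb_of_isFinLocFree hc₀ (M2.isFinLocFree_of_ofRank (M2.isFinLocFreeOfRank_freeMod X a))
  have hb := bound_transfer hϖ hTF hTE hFc hEc c (bound_free 1 c h1 a) (bound_free 2 c h2 a) φ hφ n le_rfl η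
  -- lifting
  let Sι := fun i : Fin a => (Sigma.ι (fun _ : Fin a => Coh.structureModule X) i).app ⊤ (M1.one ⊤)
  let hak : c₀ + (1 + c) ≤ n := by omega
  let hk1 : c₀ + 1 ≤ n := by omega
  let Φ : F ⟶ P ϖ (c₀ + 1) E := pr ϖ n F ≫ η.hom ≫ T hk1 E
  choose w hw using fun i : Fin a => exists_lift_section hTE c 1 hb
    ((hh0 (P ϖ (c₀ + (1 + c)) E)).symm ((pr ϖ n F ≫ η.hom ≫ T hak E).app ⊤ (Sι i)))
  let σ : F ⟶ E := Sigma.desc fun i => M1.secHom (hh0 E (w i))
  have hσ : σ ≫ pr ϖ (c₀ + 1) E = Φ := by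
    refine Sigma.hom_ext _ _ fun i => FGA3.hom_ext_one _ _ ?_
    show (pr ϖ (c₀ + 1) E).app ⊤ (σ.app ⊤ (Sι i)) = Φ.app ⊤ (Sι i)
    have h3 : σ.app ⊤ (Sι i) = hh0 E (w i) := by
      show σ.app ⊤ ((Sigma.ι (fun _ : Fin a => Coh.structureModule X) i).app ⊤ (M1.one ⊤)) = _
      rw [← CategoryTheory.comp_apply, ← Scheme.Modules.Hom.comp_app, Sigma.ι_desc]
      exact M1.secHom_app_one _
    rw [h3, ← hh0_hmap R, hw i, hh0_hmap R, AddEquiv.apply_symm_apply, ← CategoryTheory.comp_apply,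
      ← Scheme.Modules.Hom.comp_app]
    simp only [Φ, Category.assoc, T_T]
  haveI : Epi Φ := by
    haveI := epi_T hk1 E (ϖ := ϖ)
    exact inferInstanceAs (Epi (_ ≫ _))
  have hfib : ∀ y : X, ¬ IsUnit (tt ϖ y) → Function.Surjective (sm σ y) := by
    intro y hy
    obtain ⟨D, eD, hyD, heD⟩ := hloc y
    haveI : Module.Finite (X.presheaf.stalk y) (E.presheaf.stalk y : Type u) :=
      Module.Finite.equiv (stalkEquiv heD hyD).symm
    rw [← LinearMap.range_eq_top]
    refine top_unique (Submodule.le_of_le_smul_of_le_jacobson_bot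
      (I := Ideal.span {tt ϖ y ^ (c₀ + 1)}) Module.Finite.fg_top ?_ ?_)
    · rw [IsLocalRing.jacobson_eq_maximalIdeal ⊥ bot_ne_top, Ideal.span_singleton_le_iff_mem]
      exact Ideal.pow_mem_of_mem _ ((IsLocalRing.mem_maximalIdeal _).2 hy) _ (Nat.succ_pos _)
    intro z _
    obtain ⟨v, hv⟩ := sm_surjective Φ y (sm (pr ϖ (c₀ + 1) E) y z)
    obtain ⟨d, hd⟩ := (pr_eq_zero_iff (c₀ + 1) E y (z - sm σ y v)).1 (by
      rw [map_sub, ← sm_comp σ, hσ, hv, sub_self])
    rw [show z = sm σ y v + tt ϖ y ^ (c₀ + 1) • d by rw [hd]; abel]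
    exact Submodule.add_mem_sup ⟨_, rfl⟩ (Submodule.smul_mem_smul (Ideal.mem_span_singleton_self _) trivial)
  haveI : Epi σ := by
    have hQ : CohB1.IsFT (cokernel σ) := M1.isFT_of_epi (cokernel.π σ) hEc.2
    refine (M1.epi_iff_stalk σ).2 fun x b => ?_
    have hex := (M1.exact_iff_stalk_eq_zero (ShortComplex.mk σ (cokernel.π σ) (cokernel.condition σ))).1
      (ShortComplex.exact_cokernel σ) x b
    refine hex ((M1.notMem_support_iff _ x).1 (fun hx => ?_) _)
    obtain ⟨y, hxy, hy⟩ := exists_special hϖm x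
    have hys := hxy.mem_closed (M1.isClosed_support hQ) hx
    refine (M1.notMem_support_iff _ y).2 (fun q => ?_) hys
    obtain ⟨b', rfl⟩ := (M1.epi_iff_stalk (cokernel.π σ)).1 inferInstance y q
    obtain ⟨v, hv⟩ := hfib y hy b'
    show sm (cokernel.π σ) y b' = 0
    rw [← hv, ← sm_comp, cokernel.condition, sm_zero]
  haveI : IsIso σ := by
    refine (M1.isIso_iff_stalk σ).2 fun x => ?_
    have hs := sm_surjective σ x
    refine ⟨?_, hs⟩
    obtain ⟨D, eD, hxD, heD⟩ := hloc x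
    let eM := stalkEquiv (isBas_freeMod X a) (show x ∈ (⊤ : X.Opens) from trivial)
    let eN := stalkEquiv heD hxD
    have hinj := OrzechProperty.injective_of_surjective_endomorphism
      (eN.toLinearMap ∘ₗ (sm σ x) ∘ₗ eM.symm.toLinearMap) (eN.surjective.comp (hs.comp eM.symm.surjective))
    intro v v' hvv
    refine eM.injective (hinj ?_)
    show eN (sm σ x (eM.symm (eM v))) = eN (sm σ x (eM.symm (eM v')))
    rw [eM.symm_apply_apply, eM.symm_apply_apply]
    exact congrArg eN hvv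
  exact ⟨a, ⟨(asIso σ).symm⟩⟩

end Groth.Agent.DVRTriv4
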