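import Groth.Agent.Lib.DVRTriv4.Seq
import Groth.Agent.Lib.CohFound.ProperFinite
import Groth.Agent.Lib.Algz27.Completion27
import Groth.Agent.Lib.ModM1.Coh
import Groth.Agent.Lib.ModM1.Stalk
import Mathlib.RingTheory.DiscreteValuationRing.Basic

/-!
Bounded torsion in the cohomology of locally free modules over a discrete valuation ring, trivial
modulo a high power of the uniformizer; lifting of sections.
-/

set_option autoImplicit false
set_option linter.style.haveILetI false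
set_option backward.isDefEq.respectTransparency false
set_option backward.isDefEq.respectTransparency.types false

universe u

open CategoryTheory CategoryTheory.Limits AlgebraicGeometry Opposite TopologicalSpace

noncomputable section

namespace Groth.Agent.DVRTriv4

open Groth.Agent Groth.Agent.FormalH7 Groth.Agent.CurveCoh17

variable {R : Type u} [CommRing R] {X : Scheme.{u}} [X.Over (Spec (CommRingCat.of R))] {ϖ : R}
  {M N : X.Modules} {c₀ : ℕ}

theorem hmap_μ (k : ℕ) (M : X.Modules) (i : ℕ) (h : Coh.HH X M i) : hmap R (μ ϖ k M) i h = ϖ ^ k • h :=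
  hmap_smulMod R M _ i h

theorem germ_mult_eq {U : X.Opens} {x : X} (hx : x ∈ U) : X.presheaf.germ U x hx (mult X ϖ U) = tt ϖ x :=
  germ_mult hx ϖ

/-- A coherent module vanishing where the uniformizer is invertible is killed by a power. -/
theorem exists_μ_eq_zero [CompactSpace X] {K : X.Modules} (hK : Coh.IsCoh K)
    (h : ∀ x : X, IsUnit (tt ϖ x) → Subsingleton (K.presheaf.stalk x : Type u)) : ∃ d, μ ϖ d K = 0 := by
  classical
  haveI := hK.1
  have hloc : ∀ x : X, ∃ U : X.Opens, x ∈ U ∧ ∃ L : ℕ, ∀ y ∈ U, ∀ a : (K.presheaf.stalk y : Type u),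
      tt ϖ y ^ L • a = 0 := by
    intro x
    obtain ⟨U, hU, hxU, -⟩ := exists_isAffineOpen_mem_and_subset (x := x) (U := (⊤ : X.Opens)) trivial
    let r : Γ(X, U) := mult X ϖ U
    have hzero : ∀ t : Γ(K, U), M1.mres K (X.basicOpen_le r) t = 0 := fun t =>
      M1.section_ext _ _ fun y hy => by
        haveI := h y (by
          have h1 := (X.mem_basicOpen r y (X.basicOpen_le r hy)).1 hy
          rwa [germ_mult_eq] at h1)
        exact Subsingleton.elim (α := (K.presheaf.stalk y : Type u)) _ _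
    obtain ⟨S, hS⟩ := (M1.finite_sections hK.1 hK.2 hU).fg_top
    choose n hn using fun t : S => M1.exists_pow_smul_eq_zero_affine K hU r t.1 (hzero t.1)
    let L := Finset.univ.sup n
    have hL : ∀ m : Γ(K, U), r ^ L • m = 0 := fun m => by
      have hm : m ∈ Submodule.span Γ(X, U) (S : Set Γ(K, U)) := hS ▸ Submodule.mem_top
      induction hm using Submodule.span_induction with
      | mem t ht =>
        obtain ⟨d, hd⟩ := Nat.exists_eq_add_of_le (Finset.le_sup (f := n) (Finset.mem_univ ⟨t, ht⟩))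
        rw [show L = d + n ⟨t, ht⟩ by omega, pow_add, mul_smul, hn ⟨t, ht⟩, smul_zero]
      | zero => rw [smul_zero]
      | add u v _ _ hu hv => rw [smul_add, hu, hv, add_zero]
      | smul c u _ hu => rw [smul_comm, hu, smul_zero]
    refine ⟨U, hxU, L, fun y hy a => ?_⟩
    obtain ⟨c, m, hc, hm⟩ := M1.exists_germ_smul_eq K hU hy a
    refine hc.smul_eq_zero.1 ?_
    rw [smul_comm, hm, ← germ_mult_eq hy, ← map_pow, ← M1.germ_smul, hL, map_zero]
  choose U hxU L hL using hloc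
  obtain ⟨s, hs⟩ := isCompact_univ.elim_finite_subcover (fun x => (U x : Set X)) (fun x => (U x).2)
    fun x _ => Set.mem_iUnion.2 ⟨x, hxU x⟩
  refine ⟨s.sup L, ?_⟩
  refine Scheme.Modules.hom_ext _ _ fun V => ?_
  ext m
  refine M1.section_ext _ _ fun y hy => ?_
  obtain ⟨x, hx, hyx⟩ := Set.mem_iUnion₂.1 (hs (Set.mem_univ y))
  obtain ⟨l, hl⟩ := Nat.exists_eq_add_of_le (Finset.le_sup (f := L) hx)
  refine ((M1.germ_naturality (μ ϖ (s.sup L) K) V y hy m).symm.trans ?_).trans (map_zero _).symm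
  refine (sm_μ (ϖ := ϖ) (s.sup L) K y _).trans ?_
  rw [hl, add_comm, pow_add, mul_smul, hL x y hyx, smul_zero]

variable (ϖ) in
/-- killed by some power -/
def IsTor {V : Type u} [AddCommGroup V] [Module R V] (x : V) : Prop := ∃ k : ℕ, ϖ ^ k • x = 0

/-- The kernel of the map on cohomology of a morphism, bijective where the uniformizer is invertible, is torsion. -/
theorem isTor_of_hmap_eq_zero [CompactSpace X] [IsLocallyNoetherian X] (φ : M ⟶ N) (hM : Coh.IsCoh M) (hN : Coh.IsCoh N)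
    (hφ : ∀ x : X, IsUnit (tt ϖ x) → Function.Bijective (sm φ x)) (i : ℕ) (h : Coh.HH X M (i + 1))
    (hh : hmap R φ (i + 1) h = 0) : IsTor ϖ h := by
  let g : cokernel (kernel.ι φ) ⟶ N := Abelian.factorThruCoimage φ
  have hfac : cokernel.π (kernel.ι φ) ≫ g = φ := Abelian.coimage.fac φ
  have h1 : (ShortComplex.mk (kernel.ι φ) (cokernel.π (kernel.ι φ)) (cokernel.condition _)).ShortExact :=
    { exact := ShortComplex.exact_cokernel _ }
  have h2 : (ShortComplex.mk g (cokernel.π g) (cokernel.condition _)).ShortExact :=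
    { exact := ShortComplex.exact_cokernel _ }
  have hK : Coh.IsCoh (kernel φ) := M1.isCoh_kernel hM hN.1 φ
  have hL : Coh.IsCoh (cokernel (kernel.ι φ)) := M1.isCoh_cokernel hK.1 hM _
  have hC : Coh.IsCoh (cokernel g) := M1.isCoh_cokernel hL.1 hN g
  obtain ⟨d1, hd1⟩ := exists_μ_eq_zero (ϖ := ϖ) hK fun x hx => by
    refine subsingleton_of_forall_eq 0 fun a => sm_injective (kernel.ι φ) x ((hφ x hx).1 ?_)
    rw [map_zero, map_zero, ← sm_comp, kernel.condition, sm_zero]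
  obtain ⟨d2, hd2⟩ := exists_μ_eq_zero (ϖ := ϖ) hC fun x hx => by
    refine subsingleton_of_forall_eq 0 fun a => ?_
    obtain ⟨b, rfl⟩ := sm_surjective (cokernel.π g) x a
    obtain ⟨c, rfl⟩ := (hφ x hx).2 b
    refine (congrArg (fun t => sm (cokernel.π g) x (sm t x c)) hfac.symm).trans ?_
    show sm (cokernel.π g) x (sm (cokernel.π (kernel.ι φ) ≫ g) x c) = 0
    rw [sm_comp, ← sm_comp g, cokernel.condition, sm_zero]
  have hz : hmap R g (i + 1) (hmap R (cokernel.π (kernel.ι φ)) (i + 1) h) = 0 := by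
    rw [← hmap_comp, hfac, hh]
  obtain ⟨y, hy⟩ := (exact_hdelta_hmap R h2 i _).1 hz
  have hy0 : ϖ ^ d2 • y = 0 := by
    rw [← hmap_μ, hd2, hmap_zero]
  obtain ⟨z, hz'⟩ := (exact_hmap_hmap R h1 (i + 1) (ϖ ^ d2 • h)).1 (by
    show hmap R (cokernel.π (kernel.ι φ)) (i + 1) (ϖ ^ d2 • h) = 0
    rw [map_smul, ← hy, ← map_smul, hy0, map_zero])
  refine ⟨d1 + d2, ?_⟩
  rw [pow_add, mul_smul, ← hz', ← map_smul, ← hmap_μ, hd1, hmap_zero, map_zero]

variable (ϖ c₀) in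
theorem isCoh_P [IsLocallyNoetherian X] (k : ℕ) (hM : Coh.IsCoh M) : Coh.IsCoh (P ϖ k M) :=
  Algz27C.isCoh_modPow (I := Ideal.span ({ϖ} : Set R)) k hM

variable (ϖ c₀) in
theorem isCoh_I [IsLocallyNoetherian X] (hM : Coh.IsCoh M) : Coh.IsCoh (I ϖ c₀ M) :=
  M1.isCoh_kernel hM (isCoh_P ϖ c₀ hM).1 _

/-- the map between quotients induced by one at a higher level -/
theorem exists_Pmap {a k : ℕ} (h : a ≤ k) (η : P ϖ k M ⟶ P ϖ k N) :
    ∃ ψ : P ϖ a M ⟶ P ϖ a N, T h M ≫ ψ = η ≫ T h N := by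
  obtain ⟨ψ, hψ⟩ := exists_desc (ϖ := ϖ) (k := a) (pr ϖ k M ≫ η ≫ T h N) (by
    rw [← Category.assoc (pr ϖ k M) η, ← Category.assoc, μ_natural, Category.assoc, μ_natural, μ_P le_rfl, comp_zero,
      comp_zero])
  refine ⟨ψ, (cancel_epi (pr ϖ k M)).1 ?_⟩
  rw [← Category.assoc, pr_T, hψ]

theorem Pmap_compat {a b k : ℕ} (hb : b ≤ a) (ha : a ≤ k) {η : P ϖ k M ⟶ P ϖ k N} {ψa : P ϖ a M ⟶ P ϖ a N}
    (hψa : T ha M ≫ ψa = η ≫ T ha N) {ψb : P ϖ b M ⟶ P ϖ b N}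
    (hψb : T (hb.trans ha) M ≫ ψb = η ≫ T (hb.trans ha) N) : T hb M ≫ ψb = ψa ≫ T hb N := by
  refine (cancel_epi (pr ϖ a M)).1 ?_
  rw [← pr_T ha M]
  simp only [Category.assoc]
  rw [← Category.assoc (T ha M) (T hb M), T_T, hψb, ← Category.assoc (T ha M) ψa, hψa, Category.assoc, T_T]

instance epi_T {a b : ℕ} (h : b ≤ a) (M : X.Modules) : Epi (T (ϖ := ϖ) h M) := epi_of_epi_fac (pr_T h M)

variable (c₀) in
/-- compatible maps of the quotients of the torsion-free parts -/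
theorem exists_Qmaps (n d k : ℕ) (hk : c₀ + (n + d) ≤ k) (η : P ϖ k M ⟶ P ϖ k N) :
    ∃ (a : Q ϖ c₀ (n + d) M ⟶ Q ϖ c₀ (n + d) N) (b : Q ϖ c₀ n M ⟶ Q ϖ c₀ n N),
      QT ϖ c₀ n d M ≫ b = a ≫ QT ϖ c₀ n d N ∧
      kernel.ι _ ≫ (exists_Pmap hk η).choose = a ≫ kernel.ι _ ∧
      kernel.ι _ ≫ (exists_Pmap (show c₀ + n ≤ k by omega) η).choose = b ≫ kernel.ι _ := by
  have hn : c₀ + n ≤ k := by omega
  have hc : c₀ ≤ k := by omega
  have e1 := (exists_Pmap hk η).choose_spec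
  have e2 := (exists_Pmap hn η).choose_spec
  have e3 := (exists_Pmap hc η).choose_spec
  refine ⟨kernel.lift _ (kernel.ι _ ≫ (exists_Pmap hk η).choose) ?_,
    kernel.lift _ (kernel.ι _ ≫ (exists_Pmap hn η).choose) ?_, ?_,
    (kernel.lift_ι _ _ _).symm, (kernel.lift_ι _ _ _).symm⟩
  · rw [Category.assoc, ← Pmap_compat (Nat.le_add_right c₀ (n + d)) hk e1 e3, ← Category.assoc, kernel.condition,
      zero_comp]
  · rw [Category.assoc, ← Pmap_compat (Nat.le_add_right c₀ n) hn e2 e3, ← Category.assoc, kernel.condition,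
      zero_comp]
  · refine (cancel_mono (kernel.ι _)).1 ?_
    simp only [QT, Category.assoc, kernel.lift_ι]
    rw [← Category.assoc, kernel.lift_ι, Category.assoc,
      Pmap_compat (Nat.add_le_add_left (Nat.le_add_right n d) c₀) hk e1 e2, ← Category.assoc (kernel.lift _ _ _),
      kernel.lift_ι, Category.assoc]

theorem isTor_hdelta (hM : TB ϖ c₀ M) (n i : ℕ) (z : Coh.HH X (Q ϖ c₀ n M) i) :
    ϖ ^ n • hdelta R (SI_shortExact ϖ c₀ hM n) i z = 0 := by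
  rw [← hmap_μ]
  exact (exact_hdelta_hmap R (SI_shortExact ϖ c₀ hM n) i _).2 ⟨z, rfl⟩

variable [IsDomain R] [IsDiscreteValuationRing R] [IsProper (X ↘ Spec (CommRingCat.of R))]

theorem finite_HH_I (hM : Coh.IsCoh M) (i : ℕ) : Module.Finite R (Coh.HH X (I ϖ c₀ M) i) := by
  haveI : IsLocallyNoetherian X := LocallyOfFiniteType.isLocallyNoetherian (X ↘ Spec (CommRingCat.of R))
  exact CohFound.finite_HH_of_isProper _ (isCoh_I ϖ c₀ hM) i

/-- The torsion bound is inherited from the module of comparison. -/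
theorem bound_transfer (hϖ : Irreducible ϖ) (hM : TB ϖ c₀ M) (hN : TB ϖ c₀ N) (hMc : Coh.IsCoh M) (hNc : Coh.IsCoh N)
    (c : ℕ) (h1 : ∀ (x : Coh.HH X (I ϖ c₀ M) 1) (k : ℕ), ϖ ^ k • x = 0 → ϖ ^ c • x = 0)
    (h2 : ∀ (x : Coh.HH X (I ϖ c₀ M) 2) (k : ℕ), ϖ ^ k • x = 0 → ϖ ^ c • x = 0)
    (φ : M ⟶ N) (hφ : ∀ x : X, IsUnit (tt ϖ x) → Function.Bijective (sm φ x))
    (k : ℕ) (hk : c₀ + (c + 1 + c) ≤ k) (η : P ϖ k M ≅ P ϖ k N) :
    ∀ (x : Coh.HH X (I ϖ c₀ N) 1) (l : ℕ), ϖ ^ l • x = 0 → ϖ ^ c • x = 0 := by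
  haveI : IsLocallyNoetherian X := LocallyOfFiniteType.isLocallyNoetherian (X ↘ Spec (CommRingCat.of R))
  haveI : CompactSpace X := QuasiCompact.compactSpace_of_compactSpace (X ↘ Spec (CommRingCat.of R))
  haveI := finite_HH_I (ϖ := ϖ) (c₀ := c₀) hMc 1
  haveI := finite_HH_I (ϖ := ϖ) (c₀ := c₀) hNc 1
  have hϖm : ϖ ∈ IsLocalRing.maximalIdeal R := (IsLocalRing.mem_maximalIdeal _).2 hϖ.not_isUnit
  obtain ⟨θ₁, θ₀, hθ, hθι₁, hθι₀⟩ := exists_Qmaps c₀ (c + 1) c k hk η.hom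
  obtain ⟨ξ₁, ξ₀, hξ, hξι₁, hξι₀⟩ := exists_Qmaps c₀ (c + 1) c k hk η.inv
  have hinv : ξ₁ ≫ θ₁ = 𝟙 _ := by
    refine (cancel_mono (kernel.ι _)).1 ?_
    rw [Category.assoc, ← hθι₁, ← Category.assoc, ← hξι₁, Category.id_comp, Category.assoc]
    convert Category.comp_id (kernel.ι (T (Nat.le_add_right c₀ (c + 1 + c)) N)) using 2
    refine (cancel_epi (T hk N)).1 ?_
    rw [← Category.assoc, (exists_Pmap hk η.inv).choose_spec, Category.assoc, (exists_Pmap hk η.hom).choose_spec,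
      Iso.inv_hom_id_assoc, Category.comp_id]
  have hbij : ∀ x : X, IsUnit (tt ϖ x) → Function.Bijective (sm (imap ϖ c₀ φ) x) := by
    intro x hx
    have hj : ∀ (K : X.Modules), Function.Bijective (sm (j ϖ c₀ K) x) := fun K => by
      refine ⟨sm_injective _ x, fun b => exists_j_eq ϖ c₀ K x b ((pr_eq_zero_iff c₀ K x b).2 ?_)⟩
      exact ⟨((hx.pow c₀).unit⁻¹ : (X.presheaf.stalk x)ˣ) • b, by
        rw [Units.smul_def, ← mul_smul, IsUnit.mul_val_inv, one_smul]⟩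
    have hc : sm (j ϖ c₀ N) x ∘ sm (imap ϖ c₀ φ) x = sm φ x ∘ sm (j ϖ c₀ M) x := funext fun b => by
      simp only [Function.comp_apply, ← sm_comp, imap_j]
    exact ((hj N).of_comp_iff' _).1 (hc ▸ (hφ x hx).comp (hj M))
  refine torsion_bound ϖ hϖm hϖ.ne_zero c h1 (fun x a ha hx => ?_) (hmap R (imap ϖ c₀ φ) 1)
    (fun x hx => isTor_of_hmap_eq_zero (imap ϖ c₀ φ) (isCoh_I ϖ c₀ hMc) (isCoh_I ϖ c₀ hNc) hbij 0 x hx)
    (hmap R (q ϖ c₀ (c + 1) N) 1) ((hmap R θ₀ 1).comp (hmap R (q ϖ c₀ (c + 1) M) 1)) (fun h => ?_) fun h => ?_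
  · obtain ⟨m, u, rfl⟩ := IsDiscreteValuationRing.eq_unit_mul_pow_irreducible ha hϖ
    exact ⟨m, (IsUnit.smul_eq_zero u.isUnit).1 (by rw [← mul_smul]; exact hx)⟩
  · constructor
    · intro hh
      obtain ⟨y, hy⟩ := (exact_hmap_hmap R (SI_shortExact ϖ c₀ hN (c + 1)) 1 h).1 hh
      exact ⟨y, (hmap_μ _ _ 1 y).symm.trans hy⟩
    · rintro ⟨y, rfl⟩
      exact (exact_hmap_hmap R (SI_shortExact ϖ c₀ hN (c + 1)) 1 _).2 ⟨y, hmap_μ _ _ 1 y⟩
  · let z := hmap R ξ₁ 1 (hmap R (q ϖ c₀ (c + 1 + c) N) 1 h)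
    obtain ⟨g, hg⟩ := (exact_hmap_hdelta R (SI_shortExact ϖ c₀ hM (c + 1)) 1 (hmap R (QT ϖ c₀ (c + 1) c M) 1 z)).1 (by
      refine (hdelta_natural R (SI_shortExact ϖ c₀ hM (c + 1 + c)) (SI_shortExact ϖ c₀ hM (c + 1))
        (SI_hom ϖ c₀ (c + 1) c M) 1 z).symm.trans ?_
      exact (hmap_μ c _ 2 _).trans (h2 _ _ (isTor_hdelta hM _ 1 z)))
    refine ⟨g, ?_⟩
    show _ = hmap R θ₀ 1 (hmap R (q ϖ c₀ (c + 1) M) 1 g)
    change hmap R (q ϖ c₀ (c + 1) M) 1 g = _ at hg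
    rw [hg, ← hmap_comp, hθ, hmap_comp]
    show _ = hmap R (QT ϖ c₀ (c + 1) c N) 1 (hmap R θ₁ 1 (hmap R ξ₁ 1 _))
    rw [← hmap_comp R ξ₁ θ₁, hinv, hmap_id, ← hmap_comp, q_QT]

/-- Sections of a quotient by a high power lift, after reduction. -/
theorem exists_lift_section (hN : TB ϖ c₀ N) (c n : ℕ)
    (hb : ∀ (x : Coh.HH X (I ϖ c₀ N) 1) (l : ℕ), ϖ ^ l • x = 0 → ϖ ^ c • x = 0)
    (s : Coh.HH X (P ϖ (c₀ + (n + c)) N) 0) :
    ∃ w : Coh.HH X N 0, hmap R (pr ϖ (c₀ + n) N) 0 w =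
      hmap R (T (ϖ := ϖ) (Nat.add_le_add_left (Nat.le_add_right n c) c₀) N) 0 s := by
  let h' := SA_shortExact ϖ c₀ hN (n + c)
  refine (exact_hmap_hdelta R (SA_shortExact ϖ c₀ hN n) 0 _).1 ?_
  refine (hdelta_natural R h' (SA_shortExact ϖ c₀ hN n) (SA_hom ϖ c₀ n c N) 0 s).symm.trans ?_
  refine (hmap_μ c _ 1 _).trans (hb (hdelta R h' 0 s) (c₀ + (n + c)) ?_)
  have h0 : hmap R ((SA ϖ c₀ (n + c) N).f) 1 (hdelta R h' 0 s) = 0 :=
    (exact_hdelta_hmap R h' 0 _).2 ⟨s, rfl⟩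
  refine (hmap_μ (c₀ + (n + c)) (I ϖ c₀ N) 1 _).symm.trans ?_
  rw [← ιA_p, hmap_comp]
  exact (congrArg _ h0).trans (map_zero _)

end Groth.Agent.DVRTriv4
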